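import Cfsg.Agent.OD.Pre
import Cfsg.Agent.H6.ThC.O0
set_option autoImplicit false
set_option maxRecDepth 100000
set_option Elab.async false
set_option linter.all false
namespace CfH6.ThC
open CfH6 CfH6.D MulAction
theorem iO0 : Rng (chkInvT (fun x => fO (Nat.succ x)) D4B.il 9 17199) 0 17199 := rng_of 0 134 47 17199 (by decide +kernel)
theorem rO0 : Rng (chkRelT (fun x => fO (Nat.succ x)) D4B.rels) 0 11136 := rng_of 0 87 0 11136 (by decide +kernel)
theorem rO1 : Rng (chkRelT (fun x => fO (Nat.succ x)) D4B.rels) 11136 17199 := rng_of 11136 47 47 17199 (by decide +kernel)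
theorem dO0 : Rng (chkId fO) 0 17199 := rng_of 0 134 47 17199 (by decide +kernel)
theorem sO0 : Rng (chkSl fO D4D.sa D4D.sb 134 47) 10 40 := rng_of 10 0 30 40 (by decide +kernel)
theorem sO1 : Rng (chkSl fO D4D.sa D4D.sb 134 47) 40 64 := rng_of 40 0 24 64 (by decide +kernel)
end CfH6.ThC
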