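import Cfsg.Agent.OD.Pre
import Cfsg.Agent.H6.ThC.F0
import Cfsg.Agent.H6.ThC.O
set_option autoImplicit false
set_option maxRecDepth 100000
set_option Elab.async false
set_option linter.all false
namespace CfH6.ThC
open CfH6 CfH6.D MulAction
theorem p0 : Rng (P.chk) 0 4720 := rng_of 0 36 112 4720 (by decide +kernel)
theorem p1 : Rng (P.chk) 4720 7821 := rng_of 4720 24 29 7821 (by decide +kernel)
theorem c0 : (QO.ok && Nat.blt 0 QO.m && Nat.beq (P.chkCos QO trO 7821 LM ed 0 [nat_lit 7798, nat_lit 7799, nat_lit 7800, nat_lit 35, nat_lit 38, nat_lit 37, nat_lit 46] 0 0 1 ct0) 0) = true := by decide +kernel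
theorem c1 : (QO.ok && Nat.blt 0 QO.m && Nat.beq (P.chkCos QO trO 7821 LM ed 1 [nat_lit 45, nat_lit 39, nat_lit 43, nat_lit 41, nat_lit 36, nat_lit 34] 1 0 12 ct1) 0) = true := by decide +kernel
theorem l1 : (D4D.QD.ok && Nat.beq (chkLevs D4D.QD D4D.trD P.cdK (P.okE 7821 1) lev1 []) 0 && Nat.beq (lev1.map Lev.c).prod 36864) = true := by decide +kernel
theorem c2 : (QO.ok && Nat.blt 0 QO.m && Nat.beq (P.chkCos QO trO 7821 LM ed 2 [nat_lit 78, nat_lit 53, nat_lit 52, nat_lit 59, nat_lit 118, nat_lit 61, nat_lit 64, nat_lit 54, nat_lit 68] 13 0 9 ct2) 0) = true := by decide +kernel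
theorem l2 : (D4D.QD.ok && Nat.beq (chkLevs D4D.QD D4D.trD P.cdK (P.okE 7821 2) lev2 []) 0 && Nat.beq (lev2.map Lev.c).prod 13824) = true := by decide +kernel
theorem c3 : (QO.ok && Nat.blt 0 QO.m && Nat.beq (P.chkCos QO trO 7821 LM ed 3 [nat_lit 182, nat_lit 294, nat_lit 136, nat_lit 130, nat_lit 131, nat_lit 128, nat_lit 138] 22 0 97 ct3) 0) = true := by decide +kernel
theorem l3 : (D4D.QD.ok && Nat.beq (chkLevs D4D.QD D4D.trD P.cdK (P.okE 7821 3) lev3 []) 0 && Nat.beq (lev3.map Lev.c).prod 288) = true := by decide +kernel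
theorem c4 : (QO.ok && Nat.blt 0 QO.m && Nat.beq (P.chkCos QO trO 7821 LM ed 4 [nat_lit 349, nat_lit 363, nat_lit 351, nat_lit 350, nat_lit 486] 119 0 53 ct4) 0) = true := by decide +kernel
theorem l4 : (D4D.QD.ok && Nat.beq (chkLevs D4D.QD D4D.trD P.cdK (P.okE 7821 4) lev4 []) 0 && Nat.beq (lev4.map Lev.c).prod 486) = true := by decide +kernel
theorem c5 : (QO.ok && Nat.blt 0 QO.m && Nat.beq (P.chkCos QO trO 7821 LM ed 5 [nat_lit 381, nat_lit 396, nat_lit 382] 172 2 102 ct5) 0) = true := by decide +kernel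
theorem l5 : (D4D.QD.ok && Nat.beq (chkLevs D4D.QD D4D.trD P.cdK (P.okE 7821 5) lev5 []) 0 && Nat.beq (lev5.map Lev.c).prod 54) = true := by decide +kernel
theorem c6 : (QO.ok && Nat.blt 0 QO.m && Nat.beq (P.chkCos QO trO 7821 LM ed 6 [nat_lit 546, nat_lit 547] 530 23 31 ct6) 0) = true := by decide +kernel
theorem l6 : (D4D.QD.ok && Nat.beq (chkLevs D4D.QD D4D.trD P.cdK (P.okE 7821 6) lev6 []) 0 && Nat.beq (lev6.map Lev.c).prod 6) = true := by decide +kernel
theorem c7 : (QO.ok && Nat.blt 0 QO.m && Nat.beq (P.chkCos QO trO 7821 LM ed 7 [nat_lit 5459, nat_lit 5466, nat_lit 5431, nat_lit 5432] 3505 1 30 ct7) 0) = true := by decide +kernel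
theorem l7 : (D4D.QD.ok && Nat.beq (chkLevs D4D.QD D4D.trD P.cdK (P.okE 7821 7) lev7 []) 0 && Nat.beq (lev7.map Lev.c).prod 126) = true := by decide +kernel
theorem c8 : (QO.ok && Nat.blt 0 QO.m && Nat.beq (P.chkCos QO trO 7821 LM ed 8 [nat_lit 6136, nat_lit 6073, nat_lit 6098] 3663 1 125 ct8) 0) = true := by decide +kernel
theorem l8 : (D4D.QD.ok && Nat.beq (chkLevs D4D.QD D4D.trD P.cdK (P.okE 7821 8) lev8 []) 0 && Nat.beq (lev8.map Lev.c).prod 78) = true := by decide +kernel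
theorem c9 : (QO.ok && Nat.blt 0 QO.m && Nat.beq (P.chkCos QO trO 7821 LM ed 9 [nat_lit 6968, nat_lit 6927, nat_lit 6925] 3916 2 3 ct9) 0) = true := by decide +kernel
theorem l9 : (D4D.QD.ok && Nat.beq (chkLevs D4D.QD D4D.trD P.cdK (P.okE 7821 9) lev9 []) 0 && Nat.beq (lev9.map Lev.c).prod 72) = true := by decide +kernel
theorem c10 : (QO.ok && Nat.blt 0 QO.m && Nat.beq (P.chkCos QO trO 7821 LM ed 10 [nat_lit 7765, nat_lit 7757, nat_lit 7761, nat_lit 7754] 4175 0 13 ct10) 0) = true := by decide +kernel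
theorem l10 : (D4D.QD.ok && Nat.beq (chkLevs D4D.QD D4D.trD P.cdK (P.okE 7821 10) lev10 []) 0 && Nat.beq (lev10.map Lev.c).prod 3528) = true := by decide +kernel
theorem lB : (D4D.QD.ok && Nat.beq (chkLevs D4D.QD D4D.trD P.cdK (P.okP 7821 trO) levB []) 0 && Nat.beq (levB.map Lev.c).prod 36864) = true := by decide +kernel
end CfH6.ThC
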